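import Mathlib.Algebra.Lie.Rank
import Mathlib.LinearAlgebra.Charpoly.Basic
import Mathlib.LinearAlgebra.Eigenspace.Zero

set_option autoImplicit false

universe u v

namespace Groth.Agent.SGA3t2b.K672.Reg

open Polynomial LieAlgebra

/-- If some element `y` of a finite-dimensional Lie algebra over a field has a non-nilpotent adjoint map, then no
element `w` with nilpotent adjoint map (for instance `ad w = 0`) is regular. -/
theorem not_isRegular_of_isNilpotent (k : Type u) [Field k] (L : Type v) [LieRing L] [LieAlgebra k L]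
    [Module.Finite k L] (w y : L) (hw : IsNilpotent (ad k L w)) (hy : ¬ IsNilpotent (ad k L y)) :
    ¬ LieAlgebra.IsRegular k w := by
  intro h
  rw [isRegular_iff_natTrailingDegree_charpoly_eq_rank] at h
  have h1 : (ad k L w).charpoly = X ^ Module.finrank k L :=
    LinearMap.charpoly_eq_X_pow_iff (ad k L w) |>.2 fun m => by
      obtain ⟨n, hn⟩ := hw
      exact ⟨n, by rw [hn]; rfl⟩
  rw [h1, natTrailingDegree_X_pow] at h
  have h2 : Module.finrank k L ≤ (ad k L y).charpoly.natTrailingDegree := by
    rw [h]; exact rank_le_natTrailingDegree_charpoly_ad k y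
  have h3 : (ad k L y).charpoly = X ^ Module.finrank k L := by
    have hm := LinearMap.charpoly_monic (ad k L y)
    have hd : (ad k L y).charpoly.natDegree = Module.finrank k L := LinearMap.charpoly_natDegree _
    have := (Monic.eq_X_pow_iff_natTrailingDegree_eq_natDegree hm).2
      (le_antisymm (natTrailingDegree_le_natDegree _) (by rw [hd]; exact h2))
    rw [this, hd]
  refine hy ⟨Module.finrank k L, ?_⟩
  have := LinearMap.aeval_self_charpoly (ad k L y)
  rwa [h3, map_pow, aeval_X] at this

/-- The form used for S8381: `w` acts by zero, and some `y` has a nonzero eigenvector `x`, `[y, x] = c x`, `c ≠ 0`. -/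
theorem not_isRegular_of_lie_eq_smul (k : Type u) [Field k] (L : Type v) [LieRing L] [LieAlgebra k L]
    [Module.Finite k L] (w : L) (hw : ∀ z : L, ⁅w, z⁆ = 0) (y x : L) (c : k) (hc : c ≠ 0) (hx : x ≠ 0)
    (hyx : ⁅y, x⁆ = c • x) : ¬ LieAlgebra.IsRegular k w := by
  refine not_isRegular_of_isNilpotent k L w y ⟨1, ?_⟩ ?_
  · rw [pow_one]; ext z; exact hw z
  · rintro ⟨n, hn⟩
    have h : ∀ m : ℕ, ((ad k L y) ^ m) x = c ^ m • x := by
      intro m
      induction m with
      | zero => simp
      | succ m ih =>
        rw [pow_succ', Module.End.mul_apply, ih, map_smul, ad_apply, hyx, smul_smul, pow_succ]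
    have h' := h n
    rw [hn] at h'
    exact (smul_ne_zero (pow_ne_zero n hc) hx) h'.symm

end Groth.Agent.SGA3t2b.K672.Reg
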