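import Groth.Agent.SGA3t2b.K672.SD
import Groth.Agent.SGA3t2b.K672.Reg
import Groth.Agent.LieS.K988.Brk

/-!
# The Lie algebra of `𝔾_a ⋊_χ C`
-/

set_option autoImplicit false
universe u
open CategoryTheory MonoidalCategory CartesianMonoidalCategory MonObj GrpObj AlgebraicGeometry

namespace Groth.Agent.SGA3t2b.K672.LieC

open LieS K988.LieCalc K988.LieBrk Groth.Agent.SGA3t2b.K672.SD
open Groth.Agent.Sga3B.GaPts Groth.Agent.Sga3.H811.Pts

section fn

/-- Elements of `R` as functions on `Spec R`. -/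
noncomputable def fn (R : Type u) [CommRing R] : R →+* Γ(Spec (CommRingCat.of R), ⊤) :=
  (Scheme.ΓSpecIso (CommRingCat.of R)).inv.hom

lemma fn_bijective (R : Type u) [CommRing R] : Function.Bijective (fn R) :=
  (Scheme.ΓSpecIso (CommRingCat.of R)).symm.commRingCatIsoToRingEquiv.bijective

lemma appTop_fn {R R' : Type u} [CommRing R] [CommRing R'] (φ : R →+* R') (a : R) :
    (Spec.map (CommRingCat.ofHom φ)).appTop.hom (fn R a) = fn R' (φ a) := by
  have h := Scheme.ΓSpecIso_inv_naturality (CommRingCat.ofHom φ)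
  exact (congrArg (fun t => t.hom a) h).symm

end fn

variable {S : Scheme.{u}} {B : Type u} [CommRing B] (f : Spec (CommRingCat.of B) ⟶ S)

lemma gaFn_ev {C : Type u} [CommRing C] (h : B →+* C) (s : C) (hs : s * s = 0) (x : dpt B f ⟶ Red.Ga S)
    (a : DualNumber B) (ha : Red.gaFn x = fn (DualNumber B) a) :
    Red.gaFn (ev f h s hs ≫ x) = fn C (h a.fst + h a.snd * s) := by
  rw [gaFn_comp, ha]
  exact appTop_fn (dualHom h s hs) a

lemma gmFn_ev {C : Type u} [CommRing C] (h : B →+* C) (s : C) (hs : s * s = 0) (x : dpt B f ⟶ Red.Gm S)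
    (a : DualNumber B) (ha : Red.gmFn x = fn (DualNumber B) a) :
    Red.gmFn (ev f h s hs ≫ x) = fn C (h a.fst + h a.snd * s) := by
  rw [gmFn_comp, ha]
  exact appTop_fn (dualHom h s hs) a

/-- The tangent vector `ε` of `𝔾_a`. -/
noncomputable def eGa : Lie (Red.Ga S) B f :=
  ⟨gaPt (dpt B f) (fn (DualNumber B) DualNumber.eps), by
    rw [mem_Lie_iff]
    refine (comp_gaPt (zeroSec B f) (show Γ((dpt B f).left, ⊤) from fn (DualNumber B) DualNumber.eps)).trans ?_
    apply gaFn_injective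
    rw [gaFn_gaPt, gaFn_one]
    refine (appTop_fn (TrivSqZeroExt.fstHom B B B).toRingHom DualNumber.eps).trans ?_
    rw [show (TrivSqZeroExt.fstHom B B B).toRingHom DualNumber.eps = 0 from DualNumber.fst_eps, map_zero]⟩

lemma gaFn_eGa : Red.gaFn (eGa f).1 = fn (DualNumber B) DualNumber.eps := gaFn_gaPt _ _

/-- Tangent vectors of `𝔾_m`. -/
lemma exists_gmFn (t : dpt B f ⟶ Red.Gm S) (ht : zeroSec B f ≫ t = 1) :
    ∃ c : B, Red.gmFn t = fn (DualNumber B) (1 + TrivSqZeroExt.inr c) := by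
  obtain ⟨a, ha⟩ := (fn_bijective (DualNumber B)).2 (Red.gmFn t)
  have h1 : Red.gmFn (zeroSec B f ≫ t) = fn B a.fst := by
    rw [gmFn_comp, ← ha]
    exact appTop_fn (TrivSqZeroExt.fstHom B B B).toRingHom a
  rw [ht, gmFn_one] at h1
  have h2 : a.fst = 1 := (fn_bijective B).1 (h1.symm.trans (map_one _).symm)
  refine ⟨a.snd, ha.symm.trans (congrArg _ ?_)⟩
  apply TrivSqZeroExt.ext <;> simp [h2]

variable {f} {C : Over S} [GrpObj C] {χ : C ⟶ Red.Gm S} {P : Over S} [GrpObj P] (D : Semi χ P)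

lemma bracket_sec (hcomm : ∀ (X : Over S) (a b : X ⟶ C), a * b = b * a) (w : Lie C B f) (hw : w.1 ≫ χ = 1)
    (z : Lie P B f) : IsBracket P B f (LieS.map B f D.sec w) z 1 := by
  rw [isBracket_iff]
  change ev12 f ≫ (1 : dpt B f ⟶ P) = cm (ev2 f ≫ w.1 ≫ D.sec) (ev1 f ≫ z.1)
  rw [MonObj.comp_one]
  symm
  rw [cm_eq_one_iff, ← Category.assoc]
  exact D.sec_central hcomm _ (by rw [Category.assoc, hw, MonObj.comp_one]) _

lemma bracket_ga [IsMonHom χ] (y : Lie C B f) (c : B)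
    (hc : Red.gmFn (y.1 ≫ χ) = fn (DualNumber B) (1 + TrivSqZeroExt.inr c)) :
    IsBracket P B f (LieS.map B f D.sec y) (LieS.map B f D.inc (eGa f)) (LieS.map B f D.inc (c • eGa f)) := by
  rw [isBracket_iff]
  change ev12 f ≫ (c • eGa f : Lie (Red.Ga S) B f).1 ≫ D.inc =
    cm (ev2 f ≫ y.1 ≫ D.sec) (ev1 f ≫ (eGa f).1 ≫ D.inc)
  rw [← Category.assoc, ← Category.assoc, ← Category.assoc]
  have h := D.sec_inc (ev2 f ≫ y.1) (ev1 f ≫ (eGa f).1) (ev12 f ≫ (c • eGa f : Lie (Red.Ga S) B f).1) ?_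
  · rw [cm, eq_mul_inv_iff_mul_eq, eq_mul_inv_iff_mul_eq, _root_.mul_assoc]
    exact h
  · have hE : tD B c * (E1 B * E2 B) * (tD B c * (E1 B * E2 B)) = 0 := by
      calc _ = tD B c * tD B c * (E1 B * E2 B * (E1 B * E2 B)) := by ring
        _ = 0 := by rw [E12_sq, mul_zero]
    rw [ev_smul f c (eGa f) (tD B) (E1 B * E2 B) (E12_sq B) (tD B c * (E1 B * E2 B)) hE rfl]
    rw [gaFn_ev f (tD B) _ hE _ _ (gaFn_eGa f), gaFn_ev f (tD B) (E1 B) (E1_sq B) _ _ (gaFn_eGa f),
      Category.assoc, gmFn_ev f (tD B) (E2 B) (E2_sq B) _ _ hc, ← map_add, ← map_mul]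
    congr 1
    simp only [DualNumber.fst_eps, DualNumber.snd_eps, map_zero, map_one, zero_add, TrivSqZeroExt.fst_add,
      TrivSqZeroExt.fst_one, TrivSqZeroExt.fst_inr, add_zero, TrivSqZeroExt.snd_add, TrivSqZeroExt.snd_one,
      TrivSqZeroExt.snd_inr, _root_.one_mul]
    ring

lemma map_smul_inc [IsMonHom χ] (c : B) (x : Lie (Red.Ga S) B f) :
    LieS.map B f D.inc (c • x) = c • LieS.map B f D.inc x := by
  apply Subtype.ext
  exact Category.assoc (scale B f c) x.1 D.inc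

lemma map_eGa_ne_one [IsMonHom χ] [Nontrivial B] : LieS.map B f D.inc (eGa f) ≠ 1 := by
  intro h
  have h1 : (eGa f).1 ≫ D.inc = 1 := congrArg Subtype.val h
  rw [D.comp_inc, D.one_eq] at h1
  have h2 := congrArg (fun t => t ≫ D.ga) h1
  rw [D.pt_ga, D.pt_ga] at h2
  have h3 := gaFn_eGa f
  rw [h2, gaFn_one] at h3
  have h4 : (DualNumber.eps : DualNumber B) = 0 := (fn_bijective (DualNumber B)).1 (h3.symm.trans (map_zero _).symm)
  have h5 := congrArg TrivSqZeroExt.snd h4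
  rw [DualNumber.snd_eps, TrivSqZeroExt.snd_zero] at h5
  exact one_ne_zero h5

omit [CommRing B] in
/-- **The Lie algebra step.**  If `χ` is trivial on the tangent vector `w` of the commutative group `C` but not on the
tangent vector `y`, then the image of `w` in `Lie(𝔾_a ⋊_χ C)` is not regular. -/
theorem not_isRegular {k : Type u} [Field k] {f : Spec (CommRingCat.of k) ⟶ S} [IsMonHom χ]
    (hcomm : ∀ (X : Over S) (a b : X ⟶ C), a * b = b * a)
    (w : Lie C k f) (hw : w.1 ≫ χ = 1) (y : Lie C k f) (hy : y.1 ≫ χ ≠ 1)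
    (L : Type u) [LieRing L] [LieAlgebra k L] [Module.Finite k L] (m : LieS.Model P k f L) :
    ¬ LieAlgebra.IsRegular k (Multiplicative.toAdd (m.e.symm (LieS.map k f D.sec w))) := by
  obtain ⟨c, hc⟩ := exists_gmFn f (y.1 ≫ χ) (by
    rw [← Category.assoc, (mem_Lie_iff C k f y.1).1 y.2]; exact MonObj.one_comp χ)
  have hc0 : c ≠ 0 := by
    rintro rfl
    refine hy (gmFn_injective _ ?_)
    rw [hc, gmFn_one, TrivSqZeroExt.inr_zero, add_zero]
    exact map_one _
  refine Reg.not_isRegular_of_lie_eq_smul k L _ ?_ (Multiplicative.toAdd (m.e.symm (LieS.map k f D.sec y)))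
    (Multiplicative.toAdd (m.e.symm (LieS.map k f D.inc (eGa f)))) c hc0 ?_ ?_
  · intro z
    have h1 := m.e_lie (Multiplicative.toAdd (m.e.symm (LieS.map k f D.sec w))) z
    rw [ofAdd_toAdd, MulEquiv.apply_symm_apply] at h1
    have h2 := isBracket_unique f P _ _ _ _ h1 (bracket_sec D hcomm w hw _)
    exact ofAdd_eq_one.1 ((map_eq_one_iff m.e m.e.injective).1 h2)
  · intro h
    have h1 : m.e.symm (LieS.map k f D.inc (eGa f)) = 1 := toAdd_eq_zero.1 h
    exact map_eGa_ne_one D ((map_eq_one_iff m.e.symm m.e.symm.injective).1 h1)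
  · have h1 := m.e_lie (Multiplicative.toAdd (m.e.symm (LieS.map k f D.sec y)))
      (Multiplicative.toAdd (m.e.symm (LieS.map k f D.inc (eGa f))))
    rw [ofAdd_toAdd, ofAdd_toAdd, MulEquiv.apply_symm_apply, MulEquiv.apply_symm_apply] at h1
    have h2 := isBracket_unique f P _ _ _ _ h1 (bracket_ga D y c hc)
    rw [map_smul_inc] at h2
    have h3 := m.e_smul c (Multiplicative.toAdd (m.e.symm (LieS.map k f D.inc (eGa f))))
    rw [ofAdd_toAdd, MulEquiv.apply_symm_apply] at h3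
    exact Multiplicative.ofAdd.injective (m.e.injective (h2.trans h3.symm))

end Groth.Agent.SGA3t2b.K672.LieC
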