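import Groth.Prelude.Def_LieS
import Groth.Prelude.Def_SGA3x
import Groth.Prelude.Def_Red
import Groth.Prelude.Def_Red2
import Groth.Prelude.Def_AlgGrp
import Groth.Agent.SGA3t2b.K672.LieC
import Groth.Agent.SGA3t2b.K8.Fin
import Groth.Agent.SGA3t2b.K8.MTMax
import Groth.Agent.LieS.K988.Model
import Groth.Agent.RedSub.H635.GaSm

/-!
# Counterexamples `𝔾_a ⋊_χ C` to the existence of regular elements in the Lie algebra of a maximal torus
-/

set_option autoImplicit false
universe u
open CategoryTheory MonoidalCategory CartesianMonoidalCategory MonObj GrpObj AlgebraicGeometry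

namespace Groth.Agent.SGA3t2b.K672.Core

open Groth.Agent.SGA3t2b.K672.SD Groth.Agent.SGA3t2b.K672.LieC Groth.Agent.Sga3B.GaPts

section

variable {S : Scheme.{u}} {C : Over S} [GrpObj C] {χ : C ⟶ Red.Gm S} {P : Over S} [GrpObj P] (D : Semi χ P)

lemma mono_inc : Mono D.inc := by
  have h : D.inc ≫ D.ga = 𝟙 _ := D.pt_ga _ _
  have : Mono (D.inc ≫ D.ga) := by rw [h]; infer_instance
  exact mono_of_mono D.inc D.ga

lemma isKernel : AlgGrp.IsKernel D.inc D.pr := by
  rw [AlgGrp.K408.BcField.isKernel_iff]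
  refine ⟨D.pt_pr _ _, fun X x hx => ⟨x ≫ D.ga, ?_, fun y hy => ?_⟩⟩
  · change (x ≫ D.ga) ≫ D.inc = x
    rw [D.comp_inc, ← hx, D.pt_self]
  · rw [← hy, D.comp_inc, D.pt_ga]

end

section

variable {S : Scheme.{u}}

theorem prop_tensor (W : MorphismProperty Scheme.{u}) [W.IsStableUnderBaseChange] [W.IsStableUnderComposition]
    {X Y : Over S} (hX : W X.hom) (hY : W Y.hom) : W (X ⊗ Y).hom :=
  W.comp_mem _ _ (MorphismProperty.pullback_fst _ _ hY) hX

theorem prop_iso (W : MorphismProperty Scheme.{u}) [W.IsStableUnderBaseChange] {X Y : Over S} (e : X ≅ Y)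
    (hY : W Y.hom) : W X.hom := by
  have h0 : W.RespectsIso := MorphismProperty.IsStableUnderBaseChange.respectsIso
  have h1 : e.hom.left ≫ Y.hom = X.hom := Over.w e.hom
  have h2 : IsIso e.hom.left := inferInstanceAs (IsIso ((Over.forget S).map e.hom))
  rw [← h1]
  exact (W.cancel_left_of_respectsIso _ _).2 hY

theorem quasiCompact_ga : QuasiCompact (Red.Ga S).hom := by
  have h : QuasiCompact (Red.GaZ.{u}).hom := by
    change QuasiCompact (Spec.map _)
    infer_instance
  exact inferInstanceAs (QuasiCompact (Limits.pullback.snd Red.GaZ.{u}.hom _))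

end

/-- **Node CORE**: a commutative smooth quasi-compact `k`-group `C` with a maximal torus `i : T ⟶ C` and a character
`χ : C ⟶ 𝔾_m` which is trivial on `Lie T` but not on `Lie C` gives a counterexample `G = 𝔾_a ⋊_χ C` to S8381. -/
theorem core (k : Type u) [Field k] (C T : Over (Spec (CommRingCat.of k))) [GrpObj C] [GrpObj T]
    [Smooth C.hom] [QuasiCompact C.hom]
    (hcomm : ∀ (X : Over (Spec (CommRingCat.of k))) (a b : X ⟶ C), a * b = b * a)
    (i : T ⟶ C) [IsMonHom i] (hT : Red.IsMaximalTorus i)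
    (χ : C ⟶ Red.Gm (Spec (CommRingCat.of k))) [IsMonHom χ]
    (h0 : ∀ w : LieS.LieR T k, w.1 ≫ i ≫ χ = 1)
    (h1 : ∃ y : LieS.LieR C k, y.1 ≫ χ ≠ 1) :
    ∃ (G : Over (Spec (CommRingCat.of k))) (_ : GrpObj G) (_ : Smooth G.hom) (_ : QuasiCompact G.hom)
      (j : T ⟶ G) (_ : IsMonHom j) (_ : Red.IsMaximalTorus j)
      (L : Type u) (_ : LieRing L) (_ : LieAlgebra k L) (_ : Module.Finite k L)
      (m : LieS.Model G k (Spec.map (CommRingCat.ofHom (algebraMap k k))) L),
      ∀ w : ↥(LieS.LieR T k),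
        ¬ LieAlgebra.IsRegular k (Multiplicative.toAdd (m.e.symm
          (LieS.map k (Spec.map (CommRingCat.ofHom (algebraMap k k))) j w))) := by
  obtain ⟨y, hy⟩ := h1
  obtain ⟨P, gP, e, ⟨D⟩⟩ := exists_semi χ
  have hsm : Smooth P.hom := prop_iso @Smooth e
    (prop_tensor @Smooth Groth.Agent.RedSub.H635.GaSm.smooth_ga inferInstance)
  have hqc : QuasiCompact P.hom := prop_iso @QuasiCompact e
    (prop_tensor @QuasiCompact quasiCompact_ga inferInstance)
  have hmi : Mono D.inc := mono_inc D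
  have hlft : LocallyOfFiniteType C.hom := inferInstance
  have hmax : Red.IsMaximalTorus (i ≫ D.sec) :=
    K8.MTMax.isMaximalTorus D.inc D.pr (isKernel D) (i ≫ D.sec) (by
      rw [Category.assoc, D.sec_pr, Category.comp_id]; exact hT)
  obtain ⟨L, _, _, ⟨m⟩⟩ := K988.LieModel.exists_model (Spec.map (CommRingCat.ofHom (algebraMap k k))) P
  have hfin : Module.Finite k L := K8.Fin.finite_model k P L m
  refine ⟨P, gP, hsm, hqc, i ≫ D.sec, inferInstance, hmax, L, inferInstance, inferInstance, hfin, m, fun w => ?_⟩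
  exact not_isRegular D hcomm (LieS.map k (Spec.map (CommRingCat.ofHom (algebraMap k k))) i w)
    ((Category.assoc _ _ _).trans (h0 w)) y hy L m

end Groth.Agent.SGA3t2b.K672.Core
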