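import Groth.Prelude.Def_Red
import Groth.Prelude.Def_Red2
import Groth.Agent.Red.K979.Semi
import Groth.Agent.Sga3B.GaPts
import Groth.Agent.Sga3.H811.Pts

/-!
# The semidirect product `𝔾_a ⋊_χ C` of a character `χ : C ⟶ 𝔾_m`
-/

set_option autoImplicit false
universe u
open CategoryTheory MonoidalCategory CartesianMonoidalCategory MonObj GrpObj AlgebraicGeometry

namespace Groth.Agent.SGA3t2b.K672.SD

open Groth.Agent.Sga3B.GaPts Groth.Agent.Sga3.H811.Pts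

section

variable {S : Scheme.{u}} {C : Over S} (χ : C ⟶ Red.Gm S)

/-- `C` acts on `𝔾_a` by scalar multiplication through `χ`. -/
noncomputable def act : C ⊗ Red.Ga S ⟶ Red.Ga S :=
  gaPt _ (Red.gmFn (fst C (Red.Ga S) ≫ χ) * Red.gaFn (snd C (Red.Ga S)))

lemma gaFn_act {T : Over S} (q : T ⟶ C) (h : T ⟶ Red.Ga S) :
    Red.gaFn (lift q h ≫ act χ) = Red.gmFn (q ≫ χ) * Red.gaFn h := by
  rw [act, comp_gaPt, gaFn_gaPt, map_mul, ← gmFn_comp, ← gaFn_comp, lift_fst_assoc, lift_snd]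

end

/-- A group scheme `P` with a projection `pr` to `C` and a coordinate `ga` such that `P = 𝔾_a ⋊_χ C`. -/
structure Semi {S : Scheme.{u}} {C : Over S} [GrpObj C] (χ : C ⟶ Red.Gm S) (P : Over S) [GrpObj P] where
  /-- the additive coordinate -/
  ga : P ⟶ Red.Ga S
  /-- the projection -/
  pr : P ⟶ C
  /-- the point with given coordinates -/
  pt : ∀ {T : Over S}, (T ⟶ Red.Ga S) → (T ⟶ C) → (T ⟶ P)
  pt_ga : ∀ {T : Over S} (a : T ⟶ Red.Ga S) (c : T ⟶ C), pt a c ≫ ga = a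
  pt_pr : ∀ {T : Over S} (a : T ⟶ Red.Ga S) (c : T ⟶ C), pt a c ≫ pr = c
  ext : ∀ {T : Over S} (p q : T ⟶ P), p ≫ ga = q ≫ ga → p ≫ pr = q ≫ pr → p = q
  mul_ga : ∀ {T : Over S} (p q : T ⟶ P),
    Red.gaFn ((p * q) ≫ ga) = Red.gaFn (p ≫ ga) + Red.gmFn (p ≫ pr ≫ χ) * Red.gaFn (q ≫ ga)
  mul_pr : ∀ {T : Over S} (p q : T ⟶ P), (p * q) ≫ pr = (p ≫ pr) * (q ≫ pr)

/-- The semidirect product exists. -/
theorem exists_semi {S : Scheme.{u}} {C : Over S} [GrpObj C] (χ : C ⟶ Red.Gm S) [IsMonHom χ] :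
    ∃ (P : Over S) (_ : GrpObj P) (_ : P ≅ Red.Ga S ⊗ C), Nonempty (Semi χ P) := by
  have h1 : ∀ (T : Over S) (h : T ⟶ Red.Ga S), lift (1 : T ⟶ C) h ≫ act χ = h := by
    intro T h
    apply gaFn_injective
    rw [gaFn_act, show (1 : T ⟶ C) ≫ χ = 1 from MonObj.one_comp χ, gmFn_one, _root_.one_mul]
  have h2 : ∀ (T : Over S) (q q' : T ⟶ C) (h : T ⟶ Red.Ga S),
      lift (q * q') h ≫ act χ = lift q (lift q' h ≫ act χ) ≫ act χ := by
    intro T q q' h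
    apply gaFn_injective
    rw [gaFn_act, gaFn_act, gaFn_act, show (q * q') ≫ χ = (q ≫ χ) * (q' ≫ χ) from MonObj.mul_comp q q' χ,
      gmFn_mul, _root_.mul_assoc]
  have h3 : ∀ (T : Over S) (q : T ⟶ C) (h h' : T ⟶ Red.Ga S),
      lift q (h * h') ≫ act χ = (lift q h ≫ act χ) * (lift q h' ≫ act χ) := by
    intro T q h h'
    apply gaFn_injective
    rw [gaFn_act, gaFn_mul, gaFn_mul, gaFn_act, gaFn_act, mul_add]
  obtain ⟨P, gP, e, he⟩ := K979.Semi.exists_semi' (act χ) h1 h2 h3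
  refine ⟨P, gP, e, ⟨⟨e.hom ≫ fst _ _, e.hom ≫ snd _ _, fun a c => lift a c ≫ e.inv, ?_, ?_, ?_, ?_, ?_⟩⟩⟩
  · intro T a c
    rw [Category.assoc, Iso.inv_hom_id_assoc, lift_fst]
  · intro T a c
    rw [Category.assoc, Iso.inv_hom_id_assoc, lift_snd]
  · intro T p q h h'
    rw [← cancel_mono e.hom]
    apply CartesianMonoidalCategory.hom_ext
    · rw [Category.assoc, Category.assoc]; exact h
    · rw [Category.assoc, Category.assoc]; exact h'
  · intro T p q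
    have := he T p q
    rw [← Category.assoc, this, lift_fst, gaFn_mul, gaFn_act]
    simp only [Category.assoc]
  · intro T p q
    have := he T p q
    rw [← Category.assoc, this, lift_snd]

namespace Semi

variable {S : Scheme.{u}} {C : Over S} [GrpObj C] {χ : C ⟶ Red.Gm S} {P : Over S} [GrpObj P] (D : Semi χ P)

lemma isMonHom_of_mul {C : Type*} [Category C] [CartesianMonoidalCategory C] {G H : C} [GrpObj G] [GrpObj H]
    (f : G ⟶ H) (h : ∀ (X : C) (a b : X ⟶ G), (a * b) ≫ f = (a ≫ f) * (b ≫ f)) : IsMonHom f := by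
  constructor
  · have h1 := h (𝟙_ C) 1 1
    rw [_root_.mul_one] at h1
    have h2 : (1 : 𝟙_ C ⟶ G) ≫ f = 1 := by
      exact (mul_eq_left (a := (1 : 𝟙_ C ⟶ G) ≫ f)).1 h1.symm
    simpa [Hom.one_def] using h2
  · have h1 := h (G ⊗ G) (fst G G) (snd G G)
    simpa [Hom.mul_def] using h1

instance : IsMonHom D.pr := isMonHom_of_mul D.pr fun _ a b => D.mul_pr a b

lemma one_pr (T : Over S) : (1 : T ⟶ P) ≫ D.pr = 1 := MonObj.one_comp D.pr

lemma pt_comp {T T' : Over S} (h : T' ⟶ T) (a : T ⟶ Red.Ga S) (c : T ⟶ C) :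
    h ≫ D.pt a c = D.pt (h ≫ a) (h ≫ c) := by
  apply D.ext
  · rw [Category.assoc, D.pt_ga, D.pt_ga]
  · rw [Category.assoc, D.pt_pr, D.pt_pr]

lemma pt_self {T : Over S} (p : T ⟶ P) : D.pt (p ≫ D.ga) (p ≫ D.pr) = p :=
  D.ext _ _ (D.pt_ga _ _) (D.pt_pr _ _)

lemma pt_mul {T : Over S} (a a' : T ⟶ Red.Ga S) (c c' : T ⟶ C) :
    D.pt a c * D.pt a' c' = D.pt (gaPt T (Red.gaFn a + Red.gmFn (c ≫ χ) * Red.gaFn a')) (c * c') := by
  apply D.ext
  · apply gaFn_injective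
    rw [D.mul_ga, D.pt_ga, D.pt_ga, D.pt_ga, gaFn_gaPt, ← Category.assoc, D.pt_pr]
  · rw [D.mul_pr, D.pt_pr, D.pt_pr, D.pt_pr]

lemma pt_congr {T : Over S} {a a' : T ⟶ Red.Ga S} {c c' : T ⟶ C} (h : Red.gaFn a = Red.gaFn a') (h' : c = c') :
    D.pt a c = D.pt a' c' := by
  rw [gaFn_injective _ h, h']

/-- The section. -/
noncomputable def sec : C ⟶ P := D.pt 1 (𝟙 C)

lemma comp_sec {T : Over S} (c : T ⟶ C) : c ≫ D.sec = D.pt 1 c := by
  rw [sec, D.pt_comp, Category.comp_id, MonObj.comp_one]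

lemma sec_pr : D.sec ≫ D.pr = 𝟙 C := D.pt_pr _ _

instance : Mono D.sec := by
  have : Mono (D.sec ≫ D.pr) := by rw [D.sec_pr]; infer_instance
  exact mono_of_mono D.sec D.pr

instance : IsMonHom D.sec := isMonHom_of_mul D.sec fun T a b => by
  rw [D.comp_sec, D.comp_sec, D.comp_sec, D.pt_mul]
  refine D.pt_congr ?_ rfl
  rw [gaFn_gaPt, gaFn_one, mul_zero, add_zero]

lemma one_eq (T : Over S) : (1 : T ⟶ P) = D.pt 1 1 := by
  have h : D.pt (1 : T ⟶ Red.Ga S) (1 : T ⟶ C) * D.pt (1 : T ⟶ Red.Ga S) (1 : T ⟶ C) =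
      D.pt (1 : T ⟶ Red.Ga S) (1 : T ⟶ C) := by
    rw [D.pt_mul]
    refine D.pt_congr ?_ (_root_.mul_one _)
    rw [gaFn_gaPt, gaFn_one, mul_zero, add_zero]
  exact ((mul_eq_left (a := D.pt (1 : T ⟶ Red.Ga S) (1 : T ⟶ C))).1 h).symm

/-- The inclusion of the additive group. -/
noncomputable def inc : Red.Ga S ⟶ P := D.pt (𝟙 _) 1

lemma comp_inc {T : Over S} (a : T ⟶ Red.Ga S) : a ≫ D.inc = D.pt a 1 := by
  rw [inc, D.pt_comp, Category.comp_id, MonObj.comp_one]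

instance [IsMonHom χ] : IsMonHom D.inc := isMonHom_of_mul D.inc fun T a b => by
  rw [D.comp_inc, D.comp_inc, D.comp_inc, D.pt_mul]
  refine D.pt_congr ?_ (_root_.mul_one _).symm
  rw [gaFn_gaPt, show (1 : T ⟶ C) ≫ χ = 1 from MonObj.one_comp χ, gmFn_one, _root_.one_mul, gaFn_mul]

/-- A point of the section on which `χ` is trivial is central, if `C` is commutative. -/
lemma sec_central (hcomm : ∀ (X : Over S) (a b : X ⟶ C), a * b = b * a) {T : Over S} (c : T ⟶ C)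
    (hc : c ≫ χ = 1) (p : T ⟶ P) : (c ≫ D.sec) * p = p * (c ≫ D.sec) := by
  rw [D.comp_sec, ← D.pt_self p, D.pt_mul, D.pt_mul]
  refine D.pt_congr ?_ (hcomm _ _ _)
  rw [gaFn_gaPt, gaFn_gaPt, hc, gmFn_one, gaFn_one, _root_.one_mul, mul_zero, zero_add, add_zero]

/-- The commutator of a point of the section with a point of the additive group. -/
lemma sec_inc [IsMonHom χ] {T : Over S} (c : T ⟶ C) (a b : T ⟶ Red.Ga S)
    (h : Red.gaFn b + Red.gaFn a = Red.gmFn (c ≫ χ) * Red.gaFn a) :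
    (b ≫ D.inc) * ((a ≫ D.inc) * (c ≫ D.sec)) = (c ≫ D.sec) * (a ≫ D.inc) := by
  rw [D.comp_sec, D.comp_inc, D.comp_inc, D.pt_mul, D.pt_mul, D.pt_mul]
  refine D.pt_congr ?_ ?_
  · rw [gaFn_gaPt, gaFn_gaPt, gaFn_gaPt, show (1 : T ⟶ C) ≫ χ = 1 from MonObj.one_comp χ, gmFn_one, gaFn_one,
      _root_.one_mul, mul_zero, add_zero, zero_add, h]
  · rw [_root_.one_mul, _root_.one_mul, _root_.mul_one]

end Semi

end Groth.Agent.SGA3t2b.K672.SD
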